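import Mathlib
import Cfsg.Prelude.Def_Classical
import Cfsg.Agent.Helper94.Sg.Defs

/-!
# S3590 (helper99): unboundedly many finite groups isospectral to `PSp_8(q)`, `q` even — definitions

`H = V^κ ⋊ Ω⁻_8(q)` (`V = F^8` the natural module, diagonal action), realised as the affine group
`Aff ρ κ = {(w, k)}` with `(w₁, k₁) (w₂, k₂) = (w₁ + ρ k₁ * w₂, k₁ k₂)`, `w` an `8 × κ` matrix.
-/

set_option autoImplicit false

universe u v

namespace Cfsg.Agent.Helper99.Is8

open Matrix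

/-- the affine group `R^{ι × κ} ⋊ G` for a matrix representation `ρ` of `G` -/
@[ext]
structure Aff {G : Type u} [Group G] {ι : Type} [Fintype ι] [DecidableEq ι] {R : Type u} [CommRing R]
    (ρ : G →* Matrix ι ι R) (κ : Type) where
  /-- translation part -/
  w : Matrix ι κ R
  /-- linear part -/
  k : G

namespace Aff

variable {G : Type u} [Group G] {ι : Type} [Fintype ι] [DecidableEq ι] {R : Type u} [CommRing R]
  {ρ : G →* Matrix ι ι R} {κ : Type}

instance : Mul (Aff ρ κ) := ⟨fun x y => ⟨x.w + ρ x.k * y.w, x.k * y.k⟩⟩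
instance : One (Aff ρ κ) := ⟨⟨0, 1⟩⟩
instance : Inv (Aff ρ κ) := ⟨fun x => ⟨-(ρ x.k⁻¹ * x.w), x.k⁻¹⟩⟩

@[simp] theorem mul_w (x y : Aff ρ κ) : (x * y).w = x.w + ρ x.k * y.w := rfl
@[simp] theorem mul_k (x y : Aff ρ κ) : (x * y).k = x.k * y.k := rfl
@[simp] theorem one_w : (1 : Aff ρ κ).w = 0 := rfl
@[simp] theorem one_k : (1 : Aff ρ κ).k = 1 := rfl
@[simp] theorem inv_w (x : Aff ρ κ) : x⁻¹.w = -(ρ x.k⁻¹ * x.w) := rfl
@[simp] theorem inv_k (x : Aff ρ κ) : x⁻¹.k = x.k⁻¹ := rfl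

instance : Group (Aff ρ κ) where
  mul_assoc x y z := by
    ext1
    · simp only [mul_w, mul_k, map_mul, Matrix.mul_add, Matrix.mul_assoc, add_assoc]
    · simp only [mul_k, mul_assoc]
  one_mul x := by
    ext1
    · simp only [mul_w, one_w, one_k, map_one, Matrix.one_mul, zero_add]
    · simp only [mul_k, one_k, one_mul]
  mul_one x := by
    ext1
    · simp only [mul_w, one_w, Matrix.mul_zero, add_zero]
    · simp only [mul_k, one_k, mul_one]
  inv_mul_cancel x := by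
    ext1
    · simp only [mul_w, inv_w, inv_k, one_w, neg_add_cancel]
    · simp only [mul_k, inv_k, inv_mul_cancel, one_k]

/-- the underlying equivalence with the product -/
def equivProd : Aff ρ κ ≃ Matrix ι κ R × G where
  toFun x := (x.w, x.k)
  invFun p := ⟨p.1, p.2⟩
  left_inv _ := rfl
  right_inv _ := rfl

end Aff

/-- the index type of `quadFormMinus 3` -/
abbrev I8 : Type := (Fin 3 ⊕ Fin 3) ⊕ Fin 2

/-- the matrix representation of `Ω⁻_8(F)` on `F^8` -/
def rho (F : Type u) [Field F] (a b : F) :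
    ↥(Cfsg.Omega F (Cfsg.quadFormMinus 3 F a b)) →* Matrix I8 I8 F :=
  (Units.coeHom (Matrix I8 I8 F)).comp
    ((Cfsg.isometryGroup F (Cfsg.quadFormMinus 3 F a b)).subtype.comp
      (Cfsg.Omega F (Cfsg.quadFormMinus 3 F a b)).subtype)

/-- `H_κ = V^κ ⋊ Ω⁻_8(F)` -/
abbrev Hm (F : Type u) [Field F] (a b : F) (κ : Type) : Type u := Aff (rho F a b) κ

open QuadraticMap Cfsg.Agent.Helper44.QType in
/-- a unipotent piece: a nondegenerate quadratic space `(ι → F, Q)` of dimension `2 m` and type `ε` with an isometry `u` of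
order `2 ^ j` such that `u - 1` has even rank and `(u + 1) ^ (2 ^ j - 1)` does not kill the vector `w`. -/
def UR (F : Type u) [Field F] [Fintype F] (m : ℕ) (ε : ℤ) (j : ℕ) : Prop :=
  ∃ (ι : Type) (_ : Fintype ι) (_ : DecidableEq ι) (Q : QuadraticForm F (ι → F)),
    Fintype.card ι = 2 * m ∧ (∀ x, (∀ y, polar Q x y = 0) → x = 0) ∧ HasType (⇑Q) m ε ∧
      ∃ (u : ↥(Cfsg.isometryGroup F ⇑Q)) (w : ι → F), orderOf u = 2 ^ j ∧
        Even (((u : Matrix.GeneralLinearGroup ι F) : Matrix ι ι F) - 1).rank ∧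
        ((((u : Matrix.GeneralLinearGroup ι F) : Matrix ι ι F) + 1) ^ (2 ^ j - 1)) *ᵥ w ≠ 0

open QuadraticMap Cfsg.Agent.Helper44.QType in
/-- a refined realisation in dimension 8: an element `g ∈ Ω(Q)` of a minus-type space of dimension 8 and a vector `w` for which the
affine element `(w, g)` has order `N` (`orderOf g` if the norm `∑_{i < orderOf g} g ^ i` kills `w`, twice that otherwise) -/
def HR8 (F : Type u) [Field F] [Fintype F] (N : ℕ) : Prop :=
  ∃ (ι : Type) (_ : Fintype ι) (_ : DecidableEq ι) (Q : QuadraticForm F (ι → F)),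
    Fintype.card ι = 2 * 4 ∧ (∀ x, (∀ y, polar Q x y = 0) → x = 0) ∧ HasType (⇑Q) 4 (-1) ∧
      ∃ (g : ↥(Cfsg.isometryGroup F ⇑Q)) (w : ι → F), g ∈ Cfsg.Omega F ⇑Q ∧ 0 < orderOf g ∧
        (((∑ i ∈ Finset.range (orderOf g),
            ((g : Matrix.GeneralLinearGroup ι F) : Matrix ι ι F) ^ i) *ᵥ w = 0 ∧ N = orderOf g) ∨
          ((∑ i ∈ Finset.range (orderOf g),
            ((g : Matrix.GeneralLinearGroup ι F) : Matrix ι ι F) ^ i) *ᵥ w ≠ 0 ∧ N = 2 * orderOf g))

end Cfsg.Agent.Helper99.Is8
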