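import Mathlib
import Cfsg.Prelude.Def_Classical
import Cfsg.Agent.Helper99.Is8.Defs
import Cfsg.Agent.Helper1.Is8ORD
import Cfsg.Agent.Helper1.Is8POW
import Cfsg.Agent.Helper22.Is8U10P
import Cfsg.Agent.Helper42.Is8SUMA
import Cfsg.Agent.Helper42.Is8SUMB
import Cfsg.Agent.Helper47.Is8FINI
import Cfsg.Agent.Helper47.Is8ODD
import Cfsg.Agent.Helper49.Is8ARI2
import Cfsg.Agent.Helper49.Is8GEO
import Cfsg.Agent.Helper49.Is8GEOM
import Cfsg.Agent.Helper49.Is8LCM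
import Cfsg.Agent.Helper49.Is8ODDA
import Cfsg.Agent.Helper49.Is8U32M
import Cfsg.Agent.Helper52.Is8REFC
import Cfsg.Agent.Helper52.Is8U32P
import Cfsg.Agent.Helper59.Is8CHI
import Cfsg.Agent.Helper59.Is8EVR
import Cfsg.Agent.Helper59.Is8U21M
import Cfsg.Agent.Helper59.Is8U21P
import Cfsg.Agent.Helper70.Is8BIG
import Cfsg.Agent.Helper70.Is8T0
import Cfsg.Agent.Helper85.Is8REFA
import Cfsg.Agent.Helper85.Is8REFB
import Cfsg.Agent.Helper94.Sg.Step
import Cfsg.Agent.Helper94.Sg.P_SUM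
import Cfsg.Agent.Helper94.Sg.P_FIN
import Cfsg.Agent.Helper94.Sg.P_ABS
import Cfsg.Agent.Helper94.Sg.P_PLUS
import Cfsg.Agent.Helper94.Sg.P_EMB
import Cfsg.Agent.Helper94.Sg.P_MF
import Cfsg.Agent.Helper94.Sg.P_MQ
import Cfsg.Agent.Helper94.Sg.Aniso
import Cfsg.Agent.Helper45.OmegaParity
import Cfsg.Agent.Helper44.OrthSumForm
import Cfsg.Agent.Helper44.IsoTransport
import Cfsg.Agent.Helper44.QTypeAniso
import Cfsg.Agent.Helper44.QTypeProd
import Cfsg.Agent.Helper44.StdForms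
import Cfsg.Agent.Helper44.StdNondeg
import Cfsg.Agent.Helper44.OrthRealizeC

/-!
# Glue for S3590: the pieces of WANTED #12233, restated under uniform names
-/

set_option autoImplicit false
set_option linter.unusedSectionVars false
set_option linter.unusedVariables false

universe u

namespace Cfsg.Agent.Helper99.Is8Glue

open Matrix Polynomial QuadraticMap Cfsg.Agent.Helper99.Is8 Cfsg.Agent.Helper94.Sg
  Cfsg.Agent.Helper44 Cfsg.Agent.Helper44.QType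

/-! ## the affine group -/

section aff

variable {G : Type u} [Group G] {ι : Type} [Fintype ι] [DecidableEq ι] {R : Type u} [CommRing R]
  {ρ : G →* Matrix ι ι R} {κ : Type}

/-- (POW) powers in the affine group.  HINT: induction on `n`; `pow_succ`, `Aff.ext`, `Aff.mul_w`, `Aff.mul_k`,
`Finset.sum_range_succ` (or `Finset.sum_range_succ'`), `Matrix.add_mul`, `Matrix.mul_assoc`, `map_pow`. -/
theorem aff_pow (x : Aff ρ κ) (n : ℕ) :
    x ^ n = ⟨(∑ i ∈ Finset.range n, ρ x.k ^ i) * x.w, x.k ^ n⟩ :=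
  Cfsg.Agent.Helper1.Is8.aff_pow x n

/-- (ORD) the order of an affine element in characteristic 2.  HINT: with `o = orderOf x.k`, `S = ∑_{i<o} ρ(k)^i`: by (POW)
`x ^ o = ⟨S * w, 1⟩`.  If `S * w = 0` then `x ^ o = 1` and `x ^ n = 1 → k ^ n = 1 → o ∣ n`: `orderOf x = o`
(`Nat.dvd_antisymm`, `orderOf_dvd_of_pow_eq_one`, `orderOf_dvd_iff_pow_eq_one`).  Otherwise `z = x ^ o = ⟨S * w, 1⟩ ≠ 1` and
`z * z = ⟨S * w + S * w, 1⟩ = 1` since `a + a = 0` in characteristic 2 (`CharTwo.add_self_eq_zero`, `Matrix.charP`), so `x ^ (2 * o) = 1`;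
`orderOf x ∣ 2 * o`, `o ∣ orderOf x`, `orderOf x ≠ o`: write `orderOf x = o * c`, `c ∣ 2`, `c ≠ 1`. -/
theorem aff_orderOf [CharP R 2] (x : Aff ρ κ) (ho : 0 < orderOf x.k) :
    ((∑ i ∈ Finset.range (orderOf x.k), ρ x.k ^ i) * x.w = 0 ∧ orderOf x = orderOf x.k) ∨
      ((∑ i ∈ Finset.range (orderOf x.k), ρ x.k ^ i) * x.w ≠ 0 ∧ orderOf x = 2 * orderOf x.k) :=
  Cfsg.Agent.Helper1.Is8.aff_orderOf x ho

end aff

/-- (T0) a finite group has a copy in `Type` with the same element orders.  HINT: `n = Nat.card G`, `e : G ≃ Fin n`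
(`Finite.equivFin`), `H = Fin n` with `e.symm.group` (`Equiv.group`), `Equiv.mulEquiv`; `MulEquiv.orderOf_eq`; `Fintype.card_fin`. -/
theorem exists_type0 (G : Type u) [Group G] [Finite G] :
    ∃ (H : Type) (_ : Group H) (_ : Fintype H), Fintype.card H = Nat.card G ∧
      Set.range (orderOf : H → ℕ) = Set.range (orderOf : G → ℕ) :=
  Cfsg.Agent.Helper70.Is8.exists_type0 G

section hm

variable {F : Type u} [Field F] [Fintype F]

/-- (FINI) `H` is finite.  HINT: `Aff.equivProd`, `Finite.of_equiv`; `Matrix I8 κ F` is a finite pi type; the group is a subtype of a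
subtype of `GL I8 F = (Matrix I8 I8 F)ˣ` (finite: `instFiniteUnits` / `Finite.of_injective Units.val Units.ext`). -/
theorem hm_finite (a b : F) (κ : Type) [Finite κ] : Finite (Hm F a b κ) :=
  Cfsg.Agent.Helper47.Is8.hm_finite a b κ

/-- (BIG) `H` is large.  HINT: `Nat.card_congr Aff.equivProd`, `Nat.card_prod`; `Nat.card (Matrix I8 (Fin (M+1)) F) = |F| ^ (8 * (M+1)) ≥ 2 ^ (M+1) > M`
(`Nat.lt_two_pow_self`), and the second factor is `≥ 1` (`Nat.card_pos`, finite nonempty). -/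
theorem hm_card_gt (a b : F) (M : ℕ) : M < Nat.card (Hm F a b (Fin (M + 1))) :=
  Cfsg.Agent.Helper70.Is8.hm_card_gt a b M

end hm

/-! ## linear algebra in characteristic 2 -/

section linalg

variable {F : Type u} [Field F] {ι : Type} [Fintype ι] [DecidableEq ι]

/-- (GEO) the geometric sum in characteristic 2.  HINT: in `F[X]`: `(∑_{i<2^j} X^i) * (X + 1) = X^(2^j) + 1 = (X + 1)^(2^j)`
(`Commute.geom_sum₂_mul` / `mul_geom_sum`, `add_pow_char_pow`, `CharTwo` lemmas: `sub_eq_add`), cancel `X + 1 ≠ 0`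
(`mul_right_cancel₀`; `(X+1)^(2^j) = (X+1)^(2^j-1) * (X+1)`), then apply `aeval A`. -/
theorem geom_sum_two_pow [CharP F 2] (A : Matrix ι ι F) (j : ℕ) :
    ∑ i ∈ Finset.range (2 ^ j), A ^ i = (A + 1) ^ (2 ^ j - 1) :=
  Cfsg.Agent.Helper49.Is8.geom_sum_two_pow A j

/-- (GEOM) HINT: `Finset.sum_range` over `a * n` splits into `n` blocks of length `a` (`Finset.sum_range_add`-style induction on `n`,
`pow_add`, `pow_mul`, `hA`). -/
theorem geom_sum_mul (A : Matrix ι ι F) (a n : ℕ) (hA : A ^ a = 1) :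
    ∑ i ∈ Finset.range (a * n), A ^ i = n • ∑ i ∈ Finset.range a, A ^ i :=
  Cfsg.Agent.Helper49.Is8.geom_sum_mul A a n hA

/-- (REFA) if the norm `∑_{i<o} M^i` is non-zero then `(X - 1)^(2^j)` divides the minimal polynomial.  HINT: `μ = minpoly F M` divides
`X^o - 1 = ((X - 1) * Φ)^(2^j)` where `X^r - 1 = (X - 1) * Φ`, `Φ = ∑_{i<r} X^i`, `Φ.eval 1 = r ≠ 0` (`r` odd, char 2), so `Φ` is coprime to `X - 1`
(`X^o - 1 = (X^r - 1)^(2^j)`: `sub_pow_char_pow`).  Write `μ = (X - 1)^e * μ'` with `¬ (X - 1) ∣ μ'` (`exists_eq_pow_rootMultiplicity_mul_and_not_dvd`);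
then `μ' ∣ Φ^(2^j)` (coprime to `(X-1)^(2^j)`) and `e ≤ 2^j`.  If `e < 2^j` then `μ ∣ (X - 1)^(2^j - 1) * Φ^(2^j) = ∑_{i<o} X^i =: ν`
(`ν * (X - 1) = X^o - 1`, cancel), so `aeval M ν = 0` (`minpoly.dvd_iff`/`minpoly.aeval`), contradiction with `hS` (`aeval M ν = ∑ M^i`: `map_sum`, `aeval_X_pow`). -/
theorem minpoly_mult [CharP F 2] (M : Matrix ι ι F) (j r : ℕ) (hr : Odd r)
    (ho : orderOf M = 2 ^ j * r) (hS : ∑ i ∈ Finset.range (orderOf M), M ^ i ≠ 0) :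
    (X - 1 : F[X]) ^ (2 ^ j) ∣ minpoly F M :=
  Cfsg.Agent.Helper85.Is8.minpoly_mult M j r hr ho hS

/-- (REFB) kernel chain.  HINT: `T = toLin' M`, `N = T - 1`.  `(X-1)^e ∣ minpoly` means `N^(e-1) ≠ 0` on `G₁ = ker N^(card ι)`
(else `minpoly ∣ (X-1)^(e-1) * (cofactor)`; precisely: `minpoly F M = (X-1)^e * c`; if `ker N^e = ker N^(e-1)` then `(X-1)^(e-1) * c` already kills `M`
(`c(M) v ∈ ker N^e = ker N^(e-1)`), contradicting minimality of the degree: `minpoly.min`/`minpoly.dvd`).  So the chain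
`ker N ⊊ ker N^2 ⊊ … ⊊ ker N^e` is strict (`Module.End.ker_pow_constant`/`LinearMap.ker_pow_eq_ker_pow_finrank_of_le`: once two consecutive kernels
agree the chain is constant), hence `finrank (ker N^e) ≥ finrank (ker N) + (e - 1)`; and `ker N^e ≤ maxGenEigenspace T 1` whose finrank is
`T.charpoly.rootMultiplicity 1` (`LinearMap.finrank_maxGenEigenspace_eq`; `Matrix.charpoly_toLin'`/`LinearMap.charpoly_toMatrix'`). -/
theorem rootMult_ge_of_minpoly (M : Matrix ι ι F) (e : ℕ) (he : 1 ≤ e)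
    (hdvd : (X - 1 : F[X]) ^ e ∣ minpoly F M) :
    Module.finrank F (LinearMap.ker (Matrix.toLin' (M - 1))) + (e - 1)
      ≤ M.charpoly.rootMultiplicity 1 :=
  Cfsg.Agent.Helper85.Is8.rootMult_ge_of_minpoly M e he hdvd

/-- (REFC) the fixed space has dimension at least 2.  HINT: `(X - 1) ∣ minpoly F M` gives `(minpoly F M).IsRoot 1`, so `1` is an eigenvalue: there is `v ≠ 0` with `M *ᵥ v = v`
(`Matrix`/`Module.End.hasEigenvalue_of_isRoot` for `toLin' M`, `minpoly` of `toLin' M` equals that of `M`: `Matrix.minpoly_toLin'`), so the kernel of `toLin' (M - 1)` is non-zero, its finrank is `≥ 1`.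
Rank–nullity: `(M - 1).rank + finrank ker = card ι` (`Matrix.rank`, `LinearMap.finrank_range_add_finrank_ker`, `Matrix.toLin'`/`mulVecLin` agree, `Module.finrank_fintype_fun_eq_card`); both `card ι` and the rank are even, so
the finrank of the kernel is even and `≥ 1`, hence `≥ 2`. -/
theorem two_le_finrank_ker (M : Matrix ι ι F) (hdvd : (X - 1 : F[X]) ∣ minpoly F M)
    (hev : Even (M - 1).rank) (hcard : Even (Fintype.card ι)) :
    2 ≤ Module.finrank F (LinearMap.ker (Matrix.toLin' (M - 1))) :=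
  Cfsg.Agent.Helper52.Is8.two_le_finrank_ker M hdvd hev hcard

end linalg

section orth

variable {F : Type u} [Field F] [Fintype F]

/-- (ODD) elements of odd order lie in `Ω` (characteristic 2).  HINT: `Cfsg.Agent.Helper45.OmegaParity.parityHom Q hQ h : O →* Multiplicative (ZMod 2)`
and `mem_Omega_iff_even_rank`: `g = (g ^ ((n+1)/2)) ^ 2` (`n = orderOf g` odd, `pow_orderOf_eq_one`), so `parityHom g = 1` (every element of
`Multiplicative (ZMod 2)` squares to `1`), i.e. `fixD` has the parity of `card ι`, i.e. the rank of `g - 1` is even (`rank_sub_one_add_fixD`); conclude with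
`mem_Omega_iff_even_rank`.  (Alternative: the `→` proof inside `mem_Omega_iff_even_rank` only uses `g ∈ ker parityHom`.) -/
theorem mem_Omega_of_odd [CharP F 2] {ι : Type} [Fintype ι] [DecidableEq ι]
    (Q : QuadraticForm F (ι → F)) (hQ : (QuadraticMap.polarBilin Q).Nondegenerate)
    (h : Fintype.card F ≠ 2 ∨ Fintype.card ι ≠ 4) (g : ↥(Cfsg.isometryGroup F ⇑Q))
    (hodd : Odd (orderOf g)) : g ∈ Cfsg.Omega F ⇑Q :=
  Cfsg.Agent.Helper47.Is8.mem_Omega_of_odd Q hQ h g hodd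

/-- (CHI) the characteristic polynomial of an isometry of the minus form in dimension 8 is self-reciprocal.  HINT: helper94's
`Eo.gram_of_isometry` + `Eo.charpoly_reverse_of_gram` (`Cfsg/Agent/Helper94/Eo/P_CHAR.lean`) with `B` the Gram matrix of the polar form of
`quadFormMinus 3 F a b` (helper44 `polarBilin_minusForm`, `gramMinus`, `det_gramMinus` in `StdNondeg.lean`/`MinusForm.lean`; `det B = (-1)^3 * (a^2 - 4 b) ≠ 0`,
`a ≠ 0` from `hab`: `Eo.binary_disc_ne_zero`), `det A * det A = 1` gives `det A = 1` in characteristic 2 (`(d + 1)^2 = 0`), `(-1)^8 = 1`.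
`Matrix.charpoly_monic`, `Matrix.charpoly_natDegree_eq_dim`, `Fintype.card I8 = 8` (`by decide`/`simp`). -/
theorem charpoly_data [CharP F 2] (a b : F)
    (hab : ∀ z₁ z₂ : F, z₁ ^ 2 + a * z₁ * z₂ + b * z₂ ^ 2 = 0 → z₁ = 0 ∧ z₂ = 0)
    (g : ↥(Cfsg.isometryGroup F (Cfsg.quadFormMinus 3 F a b))) :
    ((g : Matrix.GeneralLinearGroup I8 F) : Matrix I8 I8 F).charpoly.natDegree = 8 ∧
      ((g : Matrix.GeneralLinearGroup I8 F) : Matrix I8 I8 F).charpoly.reverse =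
        ((g : Matrix.GeneralLinearGroup I8 F) : Matrix I8 I8 F).charpoly :=
  Cfsg.Agent.Helper59.Is8.charpoly_data a b hab g

/-- (EVR) elements of `Ω⁻_8` have even rank of `k - 1`.  HINT: `Cfsg.Agent.Helper45.OmegaParity.mem_Omega_iff_even_rank (minusForm 3 F a b) hQ (Or.inr (by decide))`
with `hQ` from `nondegenerate_minusForm 3 a b hD` (`StdNondeg.lean`), `hD : a ^ 2 - 4 * b ≠ 0` from `hab` (`4 = 0`, `a ≠ 0`); `minusForm_coe : ⇑(minusForm k F a c) = quadFormMinus k F a c := rfl`. -/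
theorem even_rank_of_mem_Omega [CharP F 2] (a b : F)
    (hab : ∀ z₁ z₂ : F, z₁ ^ 2 + a * z₁ * z₂ + b * z₂ ^ 2 = 0 → z₁ = 0 ∧ z₂ = 0)
    (k : ↥(Cfsg.Omega F (Cfsg.quadFormMinus 3 F a b))) :
    Even (rho F a b k - 1).rank :=
  Cfsg.Agent.Helper59.Is8.even_rank_of_mem_Omega a b hab k

end orth

/-! ## realisations in `H` -/

section real

variable {F : Type u} [Field F] [Fintype F]

/-- (SUMB) transport of a refined realisation to `H`.  HINT: as helper94's (FIN) `real_fin` (`Cfsg/Agent/Helper94/Sg/P_FIN.lean`, read its docstring):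
`C : (ι → F) ≃ₗ[F] (I8 → F)` with `quadFormMinus 3 F a b (C v) = Q v` from `exists_isometry_of_hasType` + `hasType_minus 3 a b hab`; `T := isoTransport ⇑Q (quadFormMinus 3 F a b) C hC`
is an injective hom (`isoTransport_injective`, `OrthRealizeC.lean`), maps `Ω` into `Ω` (`Cfsg.Agent.Helper44.map_mem_commutator`, `OrthSum.lean`), `orderOf (T g) = orderOf g`
(`orderOf_injective`).  Take `x : Hm F a b κ := ⟨Matrix.of fun i _ => C w i, ⟨T g, _⟩⟩` (all columns equal to `C w`).  By (ORD) `aff_orderOf` (above; `CharP F 2`) the order of `x` is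
`orderOf (T g)` or twice it according to whether `(∑ (T g)^i) * x.w = 0`; each column of that product is `(∑ (T g)^i) *ᵥ (C w) = C ((∑ g^i) *ᵥ w)`
(`isoTransport_mulVec`, `map_pow`, `Matrix.sum_mulVec`/`Finset.sum_mulVec`, `map_sum`), which vanishes iff `(∑ g^i) *ᵥ w = 0` (`C` injective; `κ` nonempty).
`rho F a b k = ((k : O) : GL) : Matrix` by `rfl`. -/
theorem hm_of_hr8 [CharP F 2] (a b : F)
    (hab : ∀ z₁ z₂ : F, z₁ ^ 2 + a * z₁ * z₂ + b * z₂ ^ 2 = 0 → z₁ = 0 ∧ z₂ = 0) {N : ℕ}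
    (h : HR8 F N) (κ : Type) [Nonempty κ] : ∃ x : Hm F a b κ, orderOf x = N :=
  Cfsg.Agent.Helper42.Is8.hm_of_hr8 a b hab h κ

/-- (ODDA) odd orders.  HINT: unpack `h`; `g ∈ Ω` by (ODD) `mem_Omega_of_odd` (`Fintype.card ι = 8 ≠ 4`; nondegeneracy via `nondeg_iff`, `OrthRealizeC.lean`); `w := 0`, `Matrix.mulVec_zero`, `if_pos rfl`;
`0 < orderOf g` since `Odd`. -/
theorem hr8_of_odd [CharP F 2] {N : ℕ} (h : Real F 4 (-1) N) (hodd : Odd N) : HR8 F N :=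
  Cfsg.Agent.Helper49.Is8.hr8_of_odd h hodd

/-- (SUMA) a unipotent piece plus an odd-order piece.  HINT: unpack `h₂ = (ι₂, Q₂, u, w)`, `h₁ = (ι₁, Q₁, g₁)`.  `Q := orthSumForm Q₂ Q₁` on `ι₂ ⊕ ι₁`; card, nondegeneracy and type exactly as in
helper94's (SUM) `real_sum` (`Cfsg/Agent/Helper94/Sg/P_SUM.lean`, read its docstring; `HasType.orthSum`, type `ε₂ * ε₁ = -1`, `m₂ + m₁ = 4`).
`g := blockDiagIso ⇑Q₂ ⇑Q₁ (u, g₁) = blockDiagIso (u, 1) * blockDiagIso (1, g₁)`; `blockDiagIso_coe`: the matrix is `fromBlocks U 0 0 G₁`.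
`orderOf g = lcm (2^j) n₁ = 2^j * n₁` (injective hom, `Prod.orderOf`, coprime).
`g ∈ Ω`: `blockDiagIso (1, g₁)` has odd order `n₁` so lies in `Ω` by (ODD) (`card (ι₂ ⊕ ι₁) = 8`); `blockDiagIso (u, 1)` has matrix `fromBlocks U 0 0 1`, and `fromBlocks U 0 0 1 - 1 = fromBlocks (U - 1) 0 0 0`
has the rank of `U - 1` (`Matrix.rank` of a block matrix with zero blocks: e.g. `fromBlocks (U-1) 0 0 0 = (fromBlocks 1 0 0 0 …)`, or `rank_submatrix`/range of `mulVecLin`), even; so it lies in `Ω` by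
`Cfsg.Agent.Helper45.OmegaParity.mem_Omega_iff_even_rank`.
Norm: with `o = 2^j * n₁`, `(∑_{i<o} g^i) *ᵥ (Sum.elim w 0) = Sum.elim ((∑_{i<o} U^i) *ᵥ w) 0` (`fromBlocks_multiply`, powers of block diagonal matrices; `Matrix.fromBlocks_mulVec`) and
`∑_{i<2^j * n₁} U^i = n₁ • ∑_{i<2^j} U^i = ∑_{i<2^j} U^i = (U + 1)^(2^j - 1)` ((GEOM), `n₁` odd so `n₁ • A = A` in characteristic 2, (GEO)), non-zero on `w` by `h₂`.  So `N = 2 * (2^j * n₁)`. -/
theorem hr8_of_sum [CharP F 2] {m₁ m₂ n₁ j : ℕ} {ε₁ ε₂ : ℤ} (h₁ : Real F m₁ ε₁ n₁) (hodd : Odd n₁)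
    (h₂ : UR F m₂ ε₂ j) (hm : m₂ + m₁ = 4) (hε : ε₂ * ε₁ = -1) : HR8 F (2 ^ (j + 1) * n₁) :=
  Cfsg.Agent.Helper42.Is8.hr8_of_sum h₁ hodd h₂ hm hε

/-! ### the six unipotent pieces (explicit matrices; `UR` is in `Is8/Defs.lean`)

For all six: `Q` is helper44's `plusForm m F` on `Fin m ⊕ Fin m` (`quadFormPlus m F v = ∑ i, v (inl i) * v (inr i)`, `hasType_plus m`, `nondegenerate_plusForm m` + `nondeg_iff`)
or `minusForm k F 1 ζ` on `(Fin k ⊕ Fin k) ⊕ Fin 2` with `ζ` from `exists_aniso` (`hasType_minus k 1 ζ hζ : HasType _ (k + 1) (-1)`, `nondegenerate_minusForm k 1 ζ hD`, `hD : 1 ^ 2 - 4 * ζ ≠ 0` as `4 = 0`).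
Compare helper94's (INV), (SMALL) docstrings (`Cfsg/Agent/Helper94/Sg/P_INV.lean`, `P_SMALL.lean`) for the same spaces.  Membership in `Cfsg.isometryGroup`: `Cfsg.Agent.Helper44.mem_isometryGroup_iff`. -/

/-- (U10P) `u = 1`, `w ≠ 0` (e.g. `Pi.single (inl 0) 1`): `orderOf 1 = 1 = 2^0`, rank of `0` is `0`, `(1+1)^0 *ᵥ w = w`. -/
theorem ur_1_plus_0 [CharP F 2] : UR F 1 1 0 :=
  Cfsg.Agent.Helper22.Is8.ur_1_plus_0 

/-- (U10M) the same on `minusForm 0 F 1 ζ`. -/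
theorem ur_1_minus_0 [CharP F 2] : UR F 1 (-1) 0 :=
  Cfsg.Agent.Helper22.Is8.ur_1_minus_0 

/-- (U21P) on `plusForm 2 F`, coordinates `(x₁, x₂, y₁, y₂)`: `u` = the permutation matrix swapping `x₁ ↔ y₁` and `x₂ ↔ y₂` (`Equiv.sumComm`); `u * u = 1`, `u ≠ 1`, `orderOf u = 2 = 2^1`
(`orderOf_eq_prime`); `u - 1 = u + 1` has rank 2 (its range is spanned by `e_{x₁} + e_{y₁}`, `e_{x₂} + e_{y₂}`; or `rank = 4 - dim ker` with `ker = {x = y}`); `w = e_{x₁}`: `(u + 1)^1 *ᵥ w = e_{x₁} + e_{y₁} ≠ 0`. -/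
theorem ur_2_plus_1 [CharP F 2] : UR F 2 1 1 :=
  Cfsg.Agent.Helper59.Is8.ur_2_plus_1 

/-- (U21M) on `minusForm 1 F 1 ζ`, coordinates `(x₁, y₁, z₁, z₂)`: `u`: swap `x₁ ↔ y₁` and `z₁ ↦ z₁ + z₂`, `z₂ ↦ z₂` (helper94 (INV) `real_inv_minus` has the `z`-part); `u * u = 1`, rank of `u + 1` is 2, `w = e_{x₁}`. -/
theorem ur_2_minus_1 [CharP F 2] : UR F 2 (-1) 1 :=
  Cfsg.Agent.Helper59.Is8.ur_2_minus_1 

/-- (U32P) on `plusForm 3 F`, coordinates `(x₁, x₂, x₃, y₁, y₂, y₃)`: `u` = permutation matrix: the 4-cycle `x₁' = x₂, x₂' = y₁, y₁' = y₂, y₂' = x₁` (helper94 (SMALL) `real_four`) together with the swap `x₃ ↔ y₃`.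
`u^4 = 1`, `u^2 ≠ 1` (`orderOf_eq_prime_pow`, `p = 2`, `n = 1`: order `2^2`); `u + 1` has rank `3 + 1 = 4`; `(u + 1)^3 = 1 + u + u^2 + u^3` (char 2) and applied to `w = e_{x₁}` it gives `e_{x₁} + e_{x₂} + e_{y₁} + e_{y₂} ≠ 0`.
(Everything is a 0/1 matrix: e.g. prove the matrix identities over `ZMod 2` by `decide` and map along `ZMod.castHom`/`algebraMap (ZMod 2) F`, or entrywise `fin_cases`.) -/
theorem ur_3_plus_2 [CharP F 2] : UR F 3 1 2 :=
  Cfsg.Agent.Helper52.Is8.ur_3_plus_2 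

/-- (U32M) on `minusForm 2 F 1 ζ`, coordinates `(x₁, x₂, y₁, y₂, z₁, z₂)`: the same 4-cycle on `(x₁, x₂, y₁, y₂)` together with `z₁ ↦ z₁ + z₂`, `z₂ ↦ z₂`.  Order 4, rank of `u + 1` is `3 + 1 = 4`, `w = e_{x₁}`. -/
theorem ur_3_minus_2 [CharP F 2] : UR F 3 (-1) 2 :=
  Cfsg.Agent.Helper49.Is8.ur_3_minus_2 

end real

/-! ## arithmetic -/

/-- (LCM) HINT: `q` even; `Nat.Coprime.lcm_eq_mul`; coprimality: a common divisor `d` of `q^2+1` and `q^2-1` divides `2` and is odd; `q^3 - 1 ≡ -2 mod (q+1)`, `q^3 + 1 ≡ 2 mod (q - 1)`, `q^2 + 1 ≡ 2 mod (q ± 1)`.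
`zify`/`Nat.sub_one` care: `q ≥ 2`.  `(q^2+1)*(q^2-1) = q^4 - 1`. -/
theorem lcm_facts (q : ℕ) (hq : 2 ≤ q) (heven : Even q) :
    Nat.lcm (q ^ 2 + 1) (q ^ 2 - 1) = q ^ 4 - 1 ∧
    Nat.lcm (q ^ 3 - 1) (q + 1) = (q ^ 3 - 1) * (q + 1) ∧
    Nat.lcm (q ^ 3 + 1) (q - 1) = (q ^ 3 + 1) * (q - 1) ∧
    Nat.lcm (q ^ 2 + 1) (q + 1) = (q ^ 2 + 1) * (q + 1) ∧
    Nat.lcm (q ^ 2 + 1) (q - 1) = (q ^ 2 + 1) * (q - 1) :=
  Cfsg.Agent.Helper49.Is8.lcm_facts q hq heven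

/-- (ARI2) HINT: `o = 2^j * r ∣ lcm (2^t) N'`, `r` odd so `r ∣ N'` (`Nat.Coprime.dvd_of_dvd_mul_left` after `Nat.lcm` as a divisor of `2^t * N'`); `2^(j+1) ∣ 2^t` since `2^j < 2c ≤ 2^t` gives `j < t`
(`Nat.pow_lt_pow_iff_right`); `2^(j+1)` and `r` coprime, both divide the lcm: `Nat.Coprime.mul_dvd_of_dvd_of_dvd`. -/
theorem two_mul_dvd_lcm (j r t c N' : ℕ) (hr : Odd r) (hjc : 2 ^ j + 1 ≤ 2 * c) (hct : 2 * c ≤ 2 ^ t)
    (h : 2 ^ j * r ∣ Nat.lcm (2 ^ t) N') : 2 * (2 ^ j * r) ∣ Nat.lcm (2 ^ t) N' :=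
  Cfsg.Agent.Helper49.Is8.two_mul_dvd_lcm j r t c N' hr hjc hct h

end Cfsg.Agent.Helper99.Is8Glue
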