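import Cfsg.Agent.Helper99.Is8.Glue
import Cfsg.Agent.Helper94.Sg.Final

/-!
# S3590: assembly
-/

set_option autoImplicit false
set_option linter.unusedSectionVars false
set_option linter.unusedVariables false

universe u

namespace Cfsg.Agent.Helper99.Is8

open Matrix Polynomial QuadraticMap Cfsg.Agent.Helper94.Sg Cfsg.Agent.Helper99.Is8Glue
  Cfsg.Agent.Helper44 Cfsg.Agent.Helper44.QType

variable {F : Type u} [Field F] [Fintype F]

theorem two_le_q : 2 ≤ Fintype.card F := Fintype.one_lt_card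

theorem even_q [CharP F 2] : Even (Fintype.card F) := by
  obtain ⟨n, hn⟩ := FiniteField.card F 2
  rw [hn.2]
  exact Nat.even_pow.mpr ⟨even_two, n.ne_zero⟩

instance pspFinite : Finite (Cfsg.PSp 4 F) := by
  unfold Cfsg.PSp
  infer_instance

/-- divisors of the twelve numbers are element orders of `PSp_8` -/
theorem exists_psp_of_dvd [CharP F 2] (N : ℕ) (hN : N ∈ fin12 (Fintype.card F)) (d : ℕ)
    (hd : d ∣ N) : ∃ y : Cfsg.PSp 4 F, orderOf y = d := by
  obtain ⟨ζ, hζ⟩ := exists_aniso (F := F)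
  obtain ⟨g, hg⟩ := exists_fin12 1 ζ hζ hN
  obtain ⟨y, hy⟩ := exists_psp_orderOf 1 ζ hζ g
  rw [hg] at hy
  have hpos : 0 < orderOf y := orderOf_pos y
  rw [hy] at hpos
  have hd0 : 0 < d := Nat.pos_of_dvd_of_pos hd hpos
  refine ⟨y ^ (N / d), ?_⟩
  rw [orderOf_pow_of_dvd (Nat.div_pos (Nat.le_of_dvd hpos hd) hd0).ne' (by rw [hy]; exact Nat.div_dvd_of_dvd hd),
    hy, Nat.div_div_self hd hpos.ne']

theorem rho_injective (a b : F) : Function.Injective (rho F a b) := by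
  intro x y h
  apply Subtype.ext
  apply Subtype.ext
  apply Units.ext
  exact h

theorem rootMultiplicity_of_decomp (χ g : F[X]) (c : ℕ) (hg0 : g ≠ 0)
    (hfac : χ = (X - 1) ^ (2 * c) * g) (hnd : ¬ (X - 1 : F[X]) ∣ g) :
    χ.rootMultiplicity 1 = 2 * c := by
  have hX : (X - 1 : F[X]) = X - C 1 := by rw [C_1]
  have hχ0 : χ ≠ 0 := by
    rw [hfac]
    exact mul_ne_zero (pow_ne_zero _ (by rw [hX]; exact X_sub_C_ne_zero 1)) hg0
  have h1 : g.rootMultiplicity 1 = 0 := by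
    rw [rootMultiplicity_eq_zero_iff]
    intro hroot
    exfalso
    apply hnd
    rw [hX]
    exact dvd_iff_isRoot.mpr hroot
  rw [hfac] at hχ0 ⊢
  rw [rootMultiplicity_mul hχ0, h1, add_zero, hX, rootMultiplicity_X_sub_C_pow]

/-- the key arithmetic step of `(⊆)` -/
theorem two_mul_dvd [CharP F 2] (a b : F)
    (hab : ∀ z₁ z₂ : F, z₁ ^ 2 + a * z₁ * z₂ + b * z₂ ^ 2 = 0 → z₁ = 0 ∧ z₂ = 0)
    (k : ↥(Cfsg.Omega F (Cfsg.quadFormMinus 3 F a b)))
    (hS : ∑ i ∈ Finset.range (orderOf k), rho F a b k ^ i ≠ 0) :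
    ∃ N ∈ fin12 (Fintype.card F), 2 * orderOf k ∣ N := by
  classical
  set M : Matrix I8 I8 F := rho F a b k with hM
  have hoM : orderOf M = orderOf k := orderOf_injective (rho F a b) (rho_injective a b) k
  have hopos : 0 < orderOf k := orderOf_pos k
  obtain ⟨hdeg, hrev⟩ := charpoly_data a b hab (k : ↥(Cfsg.isometryGroup F (Cfsg.quadFormMinus 3 F a b)))
  have hmonic : M.charpoly.Monic := Matrix.charpoly_monic M
  change M.charpoly.natDegree = 8 at hdeg
  change M.charpoly.reverse = M.charpoly at hrev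
  obtain ⟨c, g, hc, hfac, hgm, hgdeg, hgrev, hg1⟩ :=
    Cfsg.Agent.Helper44.QType.exists_decomp 4 M.charpoly hmonic (by rw [hdeg]) hrev
  have hg0 : g ≠ 0 := hgm.ne_zero
  have hgsr : Cfsg.Agent.Helper94.Eo.SR g := Cfsg.Agent.Helper94.Eo.sr_of_reverse_eq hg0 hgrev
  have hg1' : g.eval 1 ≠ 0 := by
    intro h
    apply hg1
    have h2 : (X - C (1 : F)) ∣ g := dvd_iff_isRoot.mpr h
    rwa [C_1] at h2
  obtain ⟨N', hN', hdvd'⟩ := cov_le4 (4 - c) (by omega) g hgm hgsr hg1' hgdeg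
  obtain ⟨N, hN, hlcm⟩ := arf _ (two_le_q (F := F)) c N' hc hN'
  refine ⟨N, hN, ?_⟩
  have hfact : Fact (Nat.Prime 2) := ⟨Nat.prime_two⟩
  set t := Nat.clog 2 (2 * c) with ht
  have hct : 2 * c ≤ 2 ^ t := Nat.le_pow_clog (by norm_num) _
  have hA : (X - 1 : F[X]) ^ (2 * c) ∣ X ^ (2 ^ t) - 1 :=
    (Cfsg.Agent.Helper94.Eo.cpart_dvd (F := F) (p := 2) (a₂ := 2 * c) (b₂ := 0) (t := t) hct
      (Nat.zero_le _)).1
  have hcop : IsCoprime ((X - 1 : F[X]) ^ (2 * c)) g := by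
    apply IsCoprime.pow_left
    have hirr : Irreducible (X - 1 : F[X]) := by
      have := irreducible_X_sub_C (1 : F)
      rwa [C_1] at this
    exact (hirr.coprime_iff_not_dvd).mpr hg1
  have hχ : M.charpoly ∣ X ^ (Nat.lcm (2 ^ t) N') - 1 :=
    cov_of_peel hfac hcop hA hdvd' (dvd_refl _)
  -- Cayley–Hamilton
  have hML : M ^ (Nat.lcm (2 ^ t) N') = 1 := by
    obtain ⟨r, hr⟩ := hχ
    have h1 := congrArg (aeval M) hr
    rw [map_mul, Matrix.aeval_self_charpoly, zero_mul, map_sub, map_pow, aeval_X, map_one] at h1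
    exact sub_eq_zero.mp h1
  have hoL : orderOf k ∣ Nat.lcm (2 ^ t) N' := by
    rw [← hoM]
    exact orderOf_dvd_of_pow_eq_one hML
  -- `2`-part
  obtain ⟨j, r, hrodd, hjr⟩ := Nat.exists_eq_two_pow_mul_odd hopos.ne'
  have hS' : ∑ i ∈ Finset.range (orderOf M), M ^ i ≠ 0 := by rw [hoM]; exact hS
  have hmin := minpoly_mult M j r hrodd (by rw [hoM]; exact hjr) hS'
  have hj1 : 1 ≤ 2 ^ j := Nat.one_le_two_pow
  have hrm := rootMult_ge_of_minpoly M (2 ^ j) hj1 hmin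
  have hev : Even (M - 1).rank := even_rank_of_mem_Omega a b hab k
  have hdvd1 : (X - 1 : F[X]) ∣ minpoly F M := (dvd_pow_self _ (by omega)).trans hmin
  have hker := two_le_finrank_ker M hdvd1 hev (by decide)
  rw [rootMultiplicity_of_decomp M.charpoly g c hg0 hfac hg1] at hrm
  have hjc : 2 ^ j + 1 ≤ 2 * c := by omega
  rw [hjr] at hoL ⊢
  exact (two_mul_dvd_lcm j r t c N' hrodd hjc hct hoL).trans hlcm

/-- `(⊆)`: every element order of `H` is an element order of `PSp_8` -/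
theorem spec_le [CharP F 2] (a b : F)
    (hab : ∀ z₁ z₂ : F, z₁ ^ 2 + a * z₁ * z₂ + b * z₂ ^ 2 = 0 → z₁ = 0 ∧ z₂ = 0)
    (κ : Type) (x : Hm F a b κ) : ∃ y : Cfsg.PSp 4 F, orderOf y = orderOf x := by
  have hopos : 0 < orderOf x.k := orderOf_pos x.k
  rcases aff_orderOf x hopos with ⟨-, ho⟩ | ⟨hne, ho⟩
  · obtain ⟨y, hy⟩ := exists_psp_orderOf a b hab
      (x.k : ↥(Cfsg.isometryGroup F (Cfsg.quadFormMinus 3 F a b)))
    refine ⟨y, ?_⟩
    rw [hy, ho, Subgroup.orderOf_coe]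
  · have hS : ∑ i ∈ Finset.range (orderOf x.k), rho F a b x.k ^ i ≠ 0 := by
      intro h0
      apply hne
      rw [h0, Matrix.zero_mul]
    obtain ⟨N, hN, hdvd⟩ := two_mul_dvd a b hab x.k hS
    obtain ⟨y, hy⟩ := exists_psp_of_dvd N hN _ hdvd
    exact ⟨y, by rw [hy, ho]⟩

/-! ### realisations -/

theorem odd_pow_add_one [CharP F 2] (k : ℕ) (hk : 1 ≤ k) : Odd (Fintype.card F ^ k + 1) :=
  Even.add_one (Nat.even_pow.mpr ⟨even_q, by omega⟩)

theorem odd_pow_sub_one [CharP F 2] (k : ℕ) (hk : 1 ≤ k) : Odd (Fintype.card F ^ k - 1) := by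
  have h1 : 1 ≤ Fintype.card F ^ k := Nat.one_le_pow _ _ (by have := two_le_q (F := F); omega)
  have h2 : Even (Fintype.card F ^ k) := Nat.even_pow.mpr ⟨even_q, by omega⟩
  exact Nat.Even.sub_odd h1 h2 odd_one

theorem hm_of_fin12 [CharP F 2] (a b : F)
    (hab : ∀ z₁ z₂ : F, z₁ ^ 2 + a * z₁ * z₂ + b * z₂ ^ 2 = 0 → z₁ = 0 ∧ z₂ = 0)
    (κ : Type) [Nonempty κ] (N : ℕ) (hN : N ∈ fin12 (Fintype.card F)) :
    ∃ x : Hm F a b κ, orderOf x = N := by
  apply hm_of_hr8 a b hab _ κ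
  set q := Fintype.card F with hq
  have hq2 : 2 ≤ q := two_le_q
  obtain ⟨l1, l2, l3, l4, l5⟩ := lcm_facts q hq2 even_q
  have op : ∀ k, 1 ≤ k → Odd (q ^ k + 1) := fun k hk => odd_pow_add_one k hk
  have om : ∀ k, 1 ≤ k → Odd (q ^ k - 1) := fun k hk => odd_pow_sub_one k hk
  have op1 : Odd (q + 1) := by have := op 1 le_rfl; rwa [pow_one] at this
  have om1 : Odd (q - 1) := by have := om 1 le_rfl; rwa [pow_one] at this
  have rp1 : Real F 1 1 (q - 1) := by have := real_plus (F := F) 1 le_rfl; rwa [pow_one] at this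
  have rm1 : Real F 1 (-1) (q + 1) := by have := real_minus (F := F) 1 le_rfl; rwa [pow_one] at this
  simp only [fin12, List.mem_cons, List.not_mem_nil, or_false] at hN
  rcases hN with rfl | rfl | rfl | rfl | rfl | rfl | rfl | rfl | rfl | rfl | rfl | rfl
  · exact hr8_of_odd (real_minus 4 (by norm_num)) (op 4 (by norm_num))
  · have h := real_sum (real_minus (F := F) 2 (by norm_num)) (real_plus (F := F) 2 (by norm_num))
    rw [← hq, l1] at h
    exact hr8_of_odd h (om 4 (by norm_num))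
  · have h := real_sum (real_plus (F := F) 3 (by norm_num)) rm1
    rw [← hq, l2] at h
    exact hr8_of_odd h ((om 3 (by norm_num)).mul op1)
  · have h := real_sum (real_minus (F := F) 3 (by norm_num)) rp1
    rw [← hq, l3] at h
    exact hr8_of_odd h ((op 3 (by norm_num)).mul om1)
  · exact hr8_of_sum (j := 0) (real_minus (F := F) 3 (by norm_num)) (op 3 (by norm_num))
      ur_1_plus_0 (by norm_num) (by norm_num)
  · exact hr8_of_sum (j := 0) (real_plus (F := F) 3 (by norm_num)) (om 3 (by norm_num))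
      ur_1_minus_0 (by norm_num) (by norm_num)
  · have h := real_sum (real_minus (F := F) 2 (by norm_num)) rm1
    rw [← hq, l4] at h
    exact hr8_of_sum (j := 0) h ((op 2 (by norm_num)).mul op1) ur_1_minus_0 (by norm_num)
      (by norm_num)
  · have h := real_sum (real_minus (F := F) 2 (by norm_num)) rp1
    rw [← hq, l5] at h
    exact hr8_of_sum (j := 0) h ((op 2 (by norm_num)).mul om1) ur_1_plus_0 (by norm_num)
      (by norm_num)
  · exact hr8_of_sum (j := 1) (real_minus (F := F) 2 (by norm_num)) (op 2 (by norm_num))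
      ur_2_plus_1 (by norm_num) (by norm_num)
  · exact hr8_of_sum (j := 1) (real_plus (F := F) 2 (by norm_num)) (om 2 (by norm_num))
      ur_2_minus_1 (by norm_num) (by norm_num)
  · exact hr8_of_sum (j := 2) rm1 op1 ur_3_plus_2 (by norm_num) (by norm_num)
  · exact hr8_of_sum (j := 2) rp1 om1 ur_3_minus_2 (by norm_num) (by norm_num)

/-- `(⊇)`: every element order of `PSp_8` is an element order of `H` -/
theorem spec_ge [CharP F 2] (a b : F)
    (hab : ∀ z₁ z₂ : F, z₁ ^ 2 + a * z₁ * z₂ + b * z₂ ^ 2 = 0 → z₁ = 0 ∧ z₂ = 0)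
    (κ : Type) [Nonempty κ] [Finite κ] (y : Cfsg.PSp 4 F) :
    ∃ x : Hm F a b κ, orderOf x = orderOf y := by
  obtain ⟨N, hN, hdvd⟩ := psp_orderOf_dvd y
  obtain ⟨x, hx⟩ := hm_of_fin12 a b hab κ N hN
  haveI := hm_finite a b κ
  have hpos : 0 < orderOf x := orderOf_pos x
  rw [hx] at hpos
  have hd0 : 0 < orderOf y := orderOf_pos y
  refine ⟨x ^ (N / orderOf y), ?_⟩
  rw [orderOf_pow_of_dvd (Nat.div_pos (Nat.le_of_dvd hpos hdvd) hd0).ne'
    (by rw [hx]; exact Nat.div_dvd_of_dvd hdvd), hx, Nat.div_div_self hdvd hpos.ne']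

/-- **S3590** -/
theorem main [CharP F 2] (M : ℕ) :
    ∃ (H : Type) (_ : Group H) (_ : Fintype H), M < Fintype.card H ∧
      Set.range (orderOf : H → ℕ) = Set.range (orderOf : Cfsg.PSp 4 F → ℕ) := by
  obtain ⟨ζ, hζ⟩ := exists_aniso (F := F)
  haveI := hm_finite (1 : F) ζ (Fin (M + 1))
  obtain ⟨H, iG, iF, hcard, hrange⟩ := exists_type0 (Hm F 1 ζ (Fin (M + 1)))
  refine ⟨H, iG, iF, ?_, ?_⟩
  · rw [hcard]
    exact hm_card_gt 1 ζ M
  · rw [hrange]
    ext n
    constructor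
    · rintro ⟨x, rfl⟩
      obtain ⟨y, hy⟩ := spec_le 1 ζ hζ (Fin (M + 1)) x
      exact ⟨y, hy⟩
    · rintro ⟨y, rfl⟩
      obtain ⟨x, hx⟩ := spec_ge 1 ζ hζ (Fin (M + 1)) y
      exact ⟨x, hx⟩

end Cfsg.Agent.Helper99.Is8
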